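import Mathlib.CategoryTheory.Monoidal.Braided.Basic
import Mathlib.CategoryTheory.Monoidal.NaturalTransformation
import Mathlib.CategoryTheory.Groupoid
import Mathlib.CategoryTheory.Equivalence

/-!
# Picardification of a symmetric monoidal groupoid

The free construction by generators and relations.
-/

set_option autoImplicit false

universe v u v' u'

open CategoryTheory MonoidalCategory

namespace Groth.Agent.Picardification

/-- Objects. -/
inductive Obj (A : Type u) : Type u
  | of (a : A)
  | one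
  | tensor (X Y : Obj A)
  | dual (X : Obj A)

variable {A : Type u} [Category.{v} A] [MonoidalCategory A] [SymmetricCategory A]

/-- Formal morphisms. -/
inductive Pre : Obj A → Obj A → Type (max u v)
  | id (X : Obj A) : Pre X X
  | comp {X Y Z : Obj A} (f : Pre X Y) (g : Pre Y Z) : Pre X Z
  | tensor {X Y X' Y' : Obj A} (f : Pre X Y) (g : Pre X' Y') : Pre (.tensor X X') (.tensor Y Y')
  | sym {X Y : Obj A} (f : Pre X Y) : Pre Y X
  | assoc (X Y Z : Obj A) : Pre (.tensor (.tensor X Y) Z) (.tensor X (.tensor Y Z))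
  | lunit (X : Obj A) : Pre (.tensor .one X) X
  | runit (X : Obj A) : Pre (.tensor X .one) X
  | braid (X Y : Obj A) : Pre (.tensor X Y) (.tensor Y X)
  | of {a b : A} (f : a ⟶ b) : Pre (.of a) (.of b)
  | mu (a b : A) : Pre (.tensor (.of a) (.of b)) (.of (a ⊗ b))
  | eps : Pre .one (.of (𝟙_ A))
  | cancel (X : Obj A) : Pre (.tensor (.dual X) X) .one

open Pre in
/-- Relations. -/
inductive Rel : ∀ {X Y : Obj A}, Pre X Y → Pre X Y → Prop
  | refl {X Y} (f : Pre X Y) : Rel f f
  | symm {X Y} {f g : Pre X Y} : Rel f g → Rel g f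
  | trans {X Y} {f g h : Pre X Y} : Rel f g → Rel g h → Rel f h
  | comp_congr {X Y Z} {f f' : Pre X Y} {g g' : Pre Y Z} :
      Rel f f' → Rel g g' → Rel (f.comp g) (f'.comp g')
  | tensor_congr {X Y X' Y'} {f f' : Pre X Y} {g g' : Pre X' Y'} :
      Rel f f' → Rel g g' → Rel (f.tensor g) (f'.tensor g')
  | sym_congr {X Y} {f f' : Pre X Y} : Rel f f' → Rel f.sym f'.sym
  | id_comp {X Y} (f : Pre X Y) : Rel ((Pre.id X).comp f) f
  | comp_id {X Y} (f : Pre X Y) : Rel (f.comp (Pre.id Y)) f
  | comp_assoc {W X Y Z} (f : Pre W X) (g : Pre X Y) (h : Pre Y Z) :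
      Rel ((f.comp g).comp h) (f.comp (g.comp h))
  | comp_sym {X Y} (f : Pre X Y) : Rel (f.comp f.sym) (Pre.id X)
  | sym_comp {X Y} (f : Pre X Y) : Rel (f.sym.comp f) (Pre.id Y)
  | tensor_id (X Y : Obj A) : Rel ((Pre.id X).tensor (Pre.id Y)) (Pre.id _)
  | tensor_comp {X Y Z X' Y' Z'} (f : Pre X Y) (f' : Pre X' Y') (g : Pre Y Z) (g' : Pre Y' Z') :
      Rel ((f.tensor f').comp (g.tensor g')) ((f.comp g).tensor (f'.comp g'))
  | assoc_nat {X Y X' Y' X'' Y''} (f : Pre X Y) (g : Pre X' Y') (h : Pre X'' Y'') :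
      Rel (((f.tensor g).tensor h).comp (assoc Y Y' Y'')) ((assoc X X' X'').comp (f.tensor (g.tensor h)))
  | lunit_nat {X Y} (f : Pre X Y) : Rel (((Pre.id .one).tensor f).comp (lunit Y)) ((lunit X).comp f)
  | runit_nat {X Y} (f : Pre X Y) : Rel ((f.tensor (Pre.id .one)).comp (runit Y)) ((runit X).comp f)
  | braid_nat {X Y X' Y'} (f : Pre X Y) (g : Pre X' Y') :
      Rel ((f.tensor g).comp (braid Y Y')) ((braid X X').comp (g.tensor f))
  | pentagon (W X Y Z : Obj A) :
      Rel (((assoc W X Y).tensor (Pre.id Z)).comp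
        ((assoc W (.tensor X Y) Z).comp ((Pre.id W).tensor (assoc X Y Z))))
        ((assoc (.tensor W X) Y Z).comp (assoc W X (.tensor Y Z)))
  | triangle (X Y : Obj A) :
      Rel ((assoc X .one Y).comp ((Pre.id X).tensor (lunit Y))) ((runit X).tensor (Pre.id Y))
  | hexagon_forward (X Y Z : Obj A) :
      Rel ((assoc X Y Z).comp ((braid X (.tensor Y Z)).comp (assoc Y Z X)))
        (((braid X Y).tensor (Pre.id Z)).comp ((assoc Y X Z).comp ((Pre.id Y).tensor (braid X Z))))
  | hexagon_reverse (X Y Z : Obj A) :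
      Rel ((assoc X Y Z).sym.comp ((braid (.tensor X Y) Z).comp (assoc Z X Y).sym))
        (((Pre.id X).tensor (braid Y Z)).comp ((assoc X Z Y).sym.comp ((braid X Z).tensor (Pre.id Y))))
  | symmetry (X Y : Obj A) : Rel ((braid X Y).comp (braid Y X)) (Pre.id _)
  | of_id (a : A) : Rel (Pre.of (𝟙 a)) (Pre.id (.of a))
  | of_comp {a b c : A} (f : a ⟶ b) (g : b ⟶ c) : Rel (Pre.of (f ≫ g)) ((Pre.of f).comp (Pre.of g))
  | mu_nat {a b a' b' : A} (f : a ⟶ b) (g : a' ⟶ b') :
      Rel (((Pre.of f).tensor (Pre.of g)).comp (mu b b')) ((mu a a').comp (Pre.of (f ⊗ₘ g)))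
  | mu_assoc (a b c : A) :
      Rel (((mu a b).tensor (Pre.id (.of c))).comp ((mu (a ⊗ b) c).comp (Pre.of (α_ a b c).hom)))
        ((assoc (.of a) (.of b) (.of c)).comp (((Pre.id (.of a)).tensor (mu b c)).comp (mu a (b ⊗ c))))
  | mu_lunit (a : A) : Rel (lunit (.of a))
      ((eps.tensor (Pre.id (.of a))).comp ((mu (𝟙_ A) a).comp (Pre.of (λ_ a).hom)))
  | mu_runit (a : A) : Rel (runit (.of a))
      (((Pre.id (.of a)).tensor eps).comp ((mu a (𝟙_ A)).comp (Pre.of (ρ_ a).hom)))
  | mu_braid (a b : A) :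
      Rel ((mu a b).comp (Pre.of (β_ a b).hom)) ((braid (.of a) (.of b)).comp (mu b a))

instance setoid (X Y : Obj A) : Setoid (Pre X Y) :=
  ⟨Rel, ⟨Rel.refl, Rel.symm, Rel.trans⟩⟩

/-- Morphisms. -/
def Hom (X Y : Obj A) : Type (max u v) := Quotient (setoid X Y)

/-- The class of a formal morphism. -/
def mk {X Y : Obj A} (f : Pre X Y) : Hom X Y := Quotient.mk _ f

instance category : Category.{max u v} (Obj A) where
  Hom := Hom
  id X := mk (.id X)
  comp := Quotient.map₂ Pre.comp fun _ _ h _ _ h' => Rel.comp_congr h h'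
  id_comp f := Quotient.inductionOn f fun f => Quotient.sound (Rel.id_comp f)
  comp_id f := Quotient.inductionOn f fun f => Quotient.sound (Rel.comp_id f)
  assoc f g h := Quotient.inductionOn₃ f g h fun f g h => Quotient.sound (Rel.comp_assoc f g h)

/-- Every formal morphism is an isomorphism. -/
def mkIso {X Y : Obj A} (f : Pre X Y) : X ≅ Y where
  hom := mk f
  inv := mk f.sym
  hom_inv_id := Quotient.sound (Rel.comp_sym f)
  inv_hom_id := Quotient.sound (Rel.sym_comp f)

instance isGroupoid : IsGroupoid (Obj A) where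
  all_isIso f := Quotient.inductionOn f fun f => (mkIso f).isIso_hom

/-- The tensor product of morphisms. -/
def tensorMap {X Y X' Y' : Obj A} (f : X ⟶ Y) (g : X' ⟶ Y') : Obj.tensor X X' ⟶ Obj.tensor Y Y' :=
  Quotient.map₂ Pre.tensor (fun _ _ h _ _ h' => Rel.tensor_congr h h') f g

instance monoidalStruct : MonoidalCategoryStruct (Obj A) where
  tensorObj := Obj.tensor
  whiskerLeft X _ _ f := tensorMap (𝟙 X) f
  whiskerRight f Y := tensorMap f (𝟙 Y)
  tensorHom := tensorMap
  tensorUnit := .one
  associator X Y Z := mkIso (.assoc X Y Z)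
  leftUnitor X := mkIso (.lunit X)
  rightUnitor X := mkIso (.runit X)

instance monoidal : MonoidalCategory (Obj A) :=
  MonoidalCategory.ofTensorHom
    (id_tensorHom_id := fun X Y => Quotient.sound (Rel.tensor_id X Y))
    (id_tensorHom := fun _ _ _ _ => rfl)
    (tensorHom_id := fun _ _ => rfl)
    (tensorHom_comp_tensorHom := fun f f' g g' => Quotient.inductionOn₂ f f' fun f f' =>
      Quotient.inductionOn₂ g g' fun g g' => Quotient.sound (Rel.tensor_comp f f' g g'))
    (associator_naturality := fun f g h => Quotient.inductionOn₃ f g h fun f g h =>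
      Quotient.sound (Rel.assoc_nat f g h))
    (leftUnitor_naturality := fun f => Quotient.inductionOn f fun f => Quotient.sound (Rel.lunit_nat f))
    (rightUnitor_naturality := fun f => Quotient.inductionOn f fun f => Quotient.sound (Rel.runit_nat f))
    (pentagon := fun W X Y Z => Quotient.sound (Rel.pentagon W X Y Z))
    (triangle := fun X Y => Quotient.sound (Rel.triangle X Y))

instance symmetric : SymmetricCategory (Obj A) where
  braiding X Y := mkIso (.braid X Y)
  braiding_naturality_right X _ _ f := Quotient.inductionOn f fun f =>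
    Quotient.sound (Rel.braid_nat (.id X) f)
  braiding_naturality_left f Z := Quotient.inductionOn f fun f =>
    Quotient.sound (Rel.braid_nat f (.id Z))
  hexagon_forward X Y Z := Quotient.sound (Rel.hexagon_forward X Y Z)
  hexagon_reverse X Y Z := Quotient.sound (Rel.hexagon_reverse X Y Z)
  symmetry X Y := Quotient.sound (Rel.symmetry X Y)

variable (A) in
/-- The universal functor. -/
def incl : A ⥤ Obj A where
  obj := .of
  map f := mk (.of f)
  map_id a := Quotient.sound (Rel.of_id a)
  map_comp f g := Quotient.sound (Rel.of_comp f g)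

instance inclLaxBraided : (incl A).LaxBraided where
  ε := mk .eps
  μ a b := mk (.mu a b)
  μ_natural_left f c := Quotient.sound (by
    have := Rel.mu_nat f (𝟙 c)
    rw [tensorHom_id] at this
    exact (Rel.comp_congr (Rel.tensor_congr (Rel.refl _) (Rel.symm (Rel.of_id c))) (Rel.refl _)).trans this)
  μ_natural_right c f := Quotient.sound (by
    have := Rel.mu_nat (𝟙 c) f
    rw [id_tensorHom] at this
    exact (Rel.comp_congr (Rel.tensor_congr (Rel.symm (Rel.of_id c)) (Rel.refl _)) (Rel.refl _)).trans this)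
  associativity a b c := Quotient.sound (Rel.mu_assoc a b c)
  left_unitality a := Quotient.sound (Rel.mu_lunit a)
  right_unitality a := Quotient.sound (Rel.mu_runit a)
  braided a b := Quotient.sound (Rel.mu_braid a b)

/-- Each object has a dual. -/
def cancelIso (X : Obj A) : Obj.dual X ⊗ X ≅ 𝟙_ (Obj A) := mkIso (.cancel X)

theorem tensorLeft_isEquivalence (X : Obj A) : (tensorLeft X).IsEquivalence :=
  (CategoryTheory.Equivalence.mk (tensorLeft X) (tensorLeft (Obj.dual X))
    ((leftUnitorNatIso _).symm ≪≫ (curriedTensor _).mapIso (cancelIso X).symm ≪≫ tensorLeftTensor _ _)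
    ((tensorLeftTensor _ _).symm ≪≫ (curriedTensor _).mapIso ((β_ X (Obj.dual X)) ≪≫ cancelIso X) ≪≫
      leftUnitorNatIso _)).isEquivalence_functor

theorem tensorRight_isEquivalence (X : Obj A) : (tensorRight X).IsEquivalence :=
  haveI := tensorLeft_isEquivalence X
  Functor.isEquivalence_of_iso (BraidedCategory.tensorLeftIsoTensorRight X)

end Groth.Agent.Picardification
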