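import Mathlib.CategoryTheory.Monoidal.Braided.Basic
import Mathlib.CategoryTheory.Monoidal.Skeleton
import Mathlib.CategoryTheory.Monoidal.NaturalTransformation
import Mathlib.CategoryTheory.Groupoid
import Mathlib.CategoryTheory.Endomorphism
import Mathlib

/-!
Picard categories: equivalences, and transformations of monoidal functors.
-/

set_option autoImplicit false

universe v u v' u'

open CategoryTheory MonoidalCategory Functor.LaxMonoidal

namespace Groth.Agent.Picardification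

variable {D : Type u'} [Category.{v'} D] [MonoidalCategory D]

/-- An endomorphism of the unit acting on an object. -/
def act (φ : 𝟙_ D ⟶ 𝟙_ D) (Z : D) : Z ⟶ Z := (λ_ Z).inv ≫ φ ▷ Z ≫ (λ_ Z).hom

theorem act_natural (φ : 𝟙_ D ⟶ 𝟙_ D) {Z W : D} (f : Z ⟶ W) : act φ Z ≫ f = f ≫ act φ W := by
  simp only [act, Category.assoc]
  rw [← leftUnitor_naturality f, ← whisker_exchange_assoc, leftUnitor_inv_naturality_assoc]

theorem act_comp (φ ψ : 𝟙_ D ⟶ 𝟙_ D) (Z : D) : act (φ ≫ ψ) Z = act φ Z ≫ act ψ Z := by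
  simp [act]

theorem act_id (Z : D) : act (𝟙 _) Z = 𝟙 Z := by simp [act]

theorem act_tensor (φ : 𝟙_ D ⟶ 𝟙_ D) (Z W : D) : act φ (Z ⊗ W) = act φ Z ▷ W := by
  simp [act, whiskerRight_tensor]

theorem act_tensor' [BraidedCategory D] (φ : 𝟙_ D ⟶ 𝟙_ D) (Z W : D) : act φ (Z ⊗ W) = Z ◁ act φ W := by
  rw [← cancel_mono (β_ Z W).hom, act_natural, act_tensor, BraidedCategory.braiding_naturality_right]

theorem act_bijective {Z : D} (hZ : (tensorRight Z).IsEquivalence) :
    Function.Bijective fun φ : 𝟙_ D ⟶ 𝟙_ D => act φ Z := by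
  refine ⟨fun φ ψ h => (tensorRight Z).map_injective ?_, fun t => ?_⟩
  · change φ ▷ Z = ψ ▷ Z
    have h' := congrArg (fun t => (λ_ Z).hom ≫ t ≫ (λ_ Z).inv) h
    simpa [act] using h'
  · refine ⟨(tensorRight Z).preimage ((λ_ Z).hom ≫ t ≫ (λ_ Z).inv), ?_⟩
    have := (tensorRight Z).map_preimage ((λ_ Z).hom ≫ t ≫ (λ_ Z).inv)
    simp only [act]
    rw [show (tensorRight Z).preimage ((λ_ Z).hom ≫ t ≫ (λ_ Z).inv) ▷ Z = _ from this]
    simp

variable {C : Type u} [Category.{v} C] [MonoidalCategory C]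

theorem map_act (F : C ⥤ D) [F.LaxMonoidal] (φ : 𝟙_ C ⟶ 𝟙_ C) (ψ : 𝟙_ D ⟶ 𝟙_ D) (X : C)
    (h : ψ ≫ ε F = ε F ≫ F.map φ) : F.map (act φ X) = act ψ (F.obj X) := by
  have h₁ : (λ_ (F.obj X)).inv ≫ ε F ▷ F.obj X ≫ μ F (𝟙_ C) X = F.map (λ_ X).inv := by
    rw [Iso.inv_comp_eq, left_unitality F X, Category.assoc, Category.assoc, ← F.map_comp,
      Iso.hom_inv_id, CategoryTheory.Functor.map_id, Category.comp_id]
  simp only [act, Functor.map_comp]
  rw [← h₁]
  simp only [Category.assoc]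
  rw [← μ_natural_left_assoc, ← comp_whiskerRight_assoc, ← h, comp_whiskerRight_assoc,
    ← left_unitality]

variable [IsGroupoid C] [IsGroupoid D]

theorem isEquivalence_of_bijective
    (hC : ∀ X : C, (tensorRight X).IsEquivalence) (hD : ∀ X : D, (tensorRight X).IsEquivalence)
    (F : C ⥤ D) [F.LaxMonoidal] [F.EssSurj]
    (h0 : ∀ X Y : C, Nonempty (F.obj X ≅ F.obj Y) → Nonempty (X ≅ Y))
    (h1 : Function.Bijective (fun φ : 𝟙_ C ⟶ 𝟙_ C => F.map φ)) : F.IsEquivalence := by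
  have key : ∀ X : C, Function.Bijective (fun a : X ⟶ X => F.map a) := by
    intro X
    have hb : Function.Bijective (fun φ : 𝟙_ C ⟶ 𝟙_ C => F.map (act φ X)) := by
      have e : (fun φ : 𝟙_ C ⟶ 𝟙_ C => F.map (act φ X)) =
          (fun ψ => act ψ (F.obj X)) ∘ (fun φ : 𝟙_ C ⟶ 𝟙_ C => ε F ≫ F.map φ ≫ inv (ε F)) :=
        funext fun φ => map_act F φ _ X (by simp)
      rw [e]
      refine (act_bijective (hD (F.obj X))).comp ⟨fun a b h => h1.1 ((cancel_mono (inv (ε F))).1 ((cancel_epi (ε F)).1 h)), fun t => ?_⟩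
      obtain ⟨φ, hφ⟩ := h1.2 (inv (ε F) ≫ t ≫ ε F)
      exact ⟨φ, by simp only at hφ ⊢; rw [hφ]; simp⟩
    have e' : (fun φ : 𝟙_ C ⟶ 𝟙_ C => F.map (act φ X)) =
        (fun a : X ⟶ X => F.map a) ∘ (fun φ => act φ X) := rfl
    rw [e'] at hb
    exact (Function.Bijective.of_comp_iff _ (act_bijective (hC X))).1 hb
  haveI : F.Faithful := ⟨fun {X Y} a b h => by
    have := (key X).1 (a₁ := a ≫ inv b) (a₂ := 𝟙 X) (by simp [h])
    exact (cancel_mono (inv b)).1 (by simpa using this)⟩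
  haveI : F.Full := ⟨fun {X Y} g => by
    obtain ⟨e⟩ := h0 X Y ⟨asIso g⟩
    obtain ⟨a, ha⟩ := (key X).2 (g ≫ F.map e.inv)
    exact ⟨a ≫ e.hom, by simp only at ha; simp [ha]⟩⟩
  exact { }

variable [BraidedCategory D]

theorem existsUnique_char (hD : ∀ X : D, (tensorRight X).IsEquivalence)
    (F G : C ⥤ D) [F.LaxMonoidal] [G.LaxMonoidal] (θ₀ : F ⟶ G) [h₀ : NatTrans.IsMonoidal θ₀]
    (θ : F ⟶ G) [hθ : NatTrans.IsMonoidal θ] :
    ∃! χ : Skeleton C →* End (𝟙_ D), ∀ X : C,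
      θ.app X = θ₀.app X ≫ act (χ (toSkeleton X)) (G.obj X) := by
  choose c hc using fun X : C => (act_bijective (hD (G.obj X))).2 (inv (θ₀.app X) ≫ θ.app X)
  have hc' : ∀ X, θ.app X = θ₀.app X ≫ act (c X) (G.obj X) := fun X => by
    rw [show act (c X) (G.obj X) = _ from hc X, IsIso.hom_inv_id_assoc]
  have hinj : ∀ X {φ ψ}, act φ (G.obj X) = act ψ (G.obj X) → φ = ψ :=
    fun X _ _ h => (act_bijective (hD (G.obj X))).1 h
  have hiso : ∀ {X Y : C}, (X ⟶ Y) → c X = c Y := by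
    intro X Y f
    refine hinj Y ((cancel_epi (θ₀.app Y)).1 ?_)
    refine (cancel_epi (F.map f)).1 ?_
    rw [← hc', θ.naturality, hc', Category.assoc, act_natural, ← θ₀.naturality_assoc]
  have hone : c (𝟙_ C) = 𝟙 _ := by
    refine hinj _ ((cancel_epi (ε F ≫ θ₀.app (𝟙_ C))).1 ?_)
    rw [act_id, Category.assoc, ← hc', hθ.unit, Category.comp_id, h₀.unit]
  have hmul : ∀ X Y, c (X ⊗ Y) = c Y ≫ c X := by
    intro X Y
    refine hinj _ ((cancel_epi (μ F X Y ≫ θ₀.app (X ⊗ Y))).1 ?_)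
    rw [Category.assoc, ← hc', hθ.tensor, h₀.tensor, Category.assoc, ← act_natural, ← Category.assoc]
    congr 1
    rw [act_comp, act_tensor' (c Y), act_tensor (c X), ← id_tensorHom, ← tensorHom_id,
      tensorHom_comp_tensorHom, tensorHom_comp_tensorHom, Category.id_comp, Category.comp_id,
      ← hc', ← hc']
  let χ : Skeleton C →* End (𝟙_ D) :=
    { toFun := Quotient.lift c fun X Y ⟨e⟩ => hiso e.hom
      map_one' := hone
      map_mul' := fun a b => Quotient.inductionOn₂ a b fun X Y => by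
        change Quotient.lift c _ (toSkeleton X * toSkeleton Y) = c Y ≫ c X
        rw [← Skeleton.toSkeleton_tensorObj]
        exact hmul X Y }
  refine ⟨χ, hc', fun χ' h => ?_⟩
  refine MonoidHom.ext fun a => Quotient.inductionOn a fun X => ?_
  exact hinj X ((cancel_epi (θ₀.app X)).1 ((h X).symm.trans (hc' X)))

theorem exists_of_char (F G : C ⥤ D) [F.LaxMonoidal] [G.LaxMonoidal] (θ₀ : F ⟶ G)
    [h₀ : NatTrans.IsMonoidal θ₀] (χ : Skeleton C →* End (𝟙_ D)) :
    ∃ θ : F ⟶ G, NatTrans.IsMonoidal θ ∧ ∀ X : C,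
      θ.app X = θ₀.app X ≫ act (χ (toSkeleton X)) (G.obj X) := by
  refine ⟨{ app := fun X => θ₀.app X ≫ act (χ (toSkeleton X)) (G.obj X), naturality := fun X Y f => ?_ },
    ⟨?_, fun X Y => ?_⟩, fun X => rfl⟩
  · rw [θ₀.naturality_assoc, Category.assoc, act_natural, congr_toSkeleton_of_iso (asIso f)]
  · rw [h₀.unit_assoc, show χ (toSkeleton (𝟙_ C)) = 𝟙 _ from χ.map_one, act_id, Category.comp_id]
  · have e : χ (toSkeleton (X ⊗ Y)) = χ (toSkeleton Y) ≫ χ (toSkeleton X) := by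
      rw [Skeleton.toSkeleton_tensorObj, map_mul]; rfl
    rw [h₀.tensor_assoc, e, ← act_natural, ← Category.assoc]
    congr 1
    rw [act_comp, act_tensor' (χ (toSkeleton Y)), act_tensor (χ (toSkeleton X)), ← id_tensorHom,
      ← tensorHom_id, tensorHom_comp_tensorHom, tensorHom_comp_tensorHom, Category.id_comp, Category.comp_id]

end Groth.Agent.Picardification
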