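import Groth.Agent.Picardification.Basic

/-!
# The universal property of the Picardification
-/

set_option autoImplicit false

universe v u v' u'

open CategoryTheory MonoidalCategory Functor.LaxMonoidal

namespace Groth.Agent.Picardification

variable {A : Type u} [Category.{v} A] [MonoidalCategory A] [SymmetricCategory A]
variable {P : Type u'} [Category.{v'} P] [MonoidalCategory P] [SymmetricCategory P] [IsGroupoid P]

section Existence

variable [hP : ∀ X : P, (tensorRight X).IsEquivalence] (Φ : A ⥤ P) [Φ.LaxBraided]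

/-- The extension on objects. -/
noncomputable def objMap : Obj A → P
  | .of a => Φ.obj a
  | .one => 𝟙_ P
  | .tensor X Y => objMap X ⊗ objMap Y
  | .dual X => (tensorRight (objMap X)).objPreimage (𝟙_ P)

/-- The extension on formal morphisms. -/
noncomputable def preMap : {X Y : Obj A} → Pre X Y → (objMap Φ X ⟶ objMap Φ Y)
  | _, _, .id _ => 𝟙 _
  | _, _, .comp f g => preMap f ≫ preMap g
  | _, _, .tensor f g => preMap f ⊗ₘ preMap g
  | _, _, .sym f => CategoryTheory.inv (preMap f)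
  | _, _, .assoc _ _ _ => (α_ _ _ _).hom
  | _, _, .lunit _ => (λ_ _).hom
  | _, _, .runit _ => (ρ_ _).hom
  | _, _, .braid _ _ => (β_ _ _).hom
  | _, _, .of f => Φ.map f
  | _, _, .mu a b => μ Φ a b
  | _, _, .eps => ε Φ
  | _, _, .cancel X => ((tensorRight (objMap Φ X)).objObjPreimageIso (𝟙_ P)).hom

theorem preMap_eq {X Y : Obj A} {f g : Pre X Y} (h : Rel f g) : preMap Φ f = preMap Φ g := by
  induction h with
  | refl => rfl
  | symm _ ih => exact ih.symm
  | trans _ _ ih ih' => exact ih.trans ih'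
  | comp_congr _ _ ih ih' => simp only [preMap, ih, ih']
  | tensor_congr _ _ ih ih' => exact congrArg₂ (· ⊗ₘ ·) ih ih'
  | sym_congr _ ih => simp only [preMap, ih]
  | id_comp => simp [preMap]
  | comp_id => simp [preMap]
  | comp_assoc => simp [preMap]
  | comp_sym => simp [preMap]
  | sym_comp => simp [preMap]
  | tensor_id => simp [preMap, objMap]
  | tensor_comp => simp [preMap, objMap]
  | assoc_nat => simp only [preMap, objMap]; exact associator_naturality _ _ _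
  | lunit_nat => simp [preMap, objMap]
  | runit_nat => simp [preMap, objMap]
  | braid_nat => simp only [preMap, objMap]; exact BraidedCategory.braiding_naturality _ _
  | pentagon => simp [preMap, objMap]
  | triangle => simp [preMap, objMap]
  | hexagon_forward => simp [preMap, objMap, BraidedCategory.hexagon_forward]
  | hexagon_reverse X Y Z =>
    simp only [preMap, objMap, tensorHom_id, id_tensorHom, IsIso.Iso.inv_hom]
    exact BraidedCategory.hexagon_reverse _ _ _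
  | symmetry => simp [preMap, objMap]
  | of_id => simp [preMap, objMap]
  | of_comp => simp [preMap, objMap]
  | mu_nat f g => simp only [preMap, objMap]; exact μ_natural Φ f g
  | mu_assoc a b c => simp only [preMap, objMap, tensorHom_id, id_tensorHom]; exact associativity Φ a b c
  | mu_lunit a => simp only [preMap, objMap, tensorHom_id]; exact left_unitality Φ a
  | mu_runit a => simp only [preMap, objMap, id_tensorHom]; exact right_unitality Φ a
  | mu_braid a b => simp only [preMap, objMap]; exact Functor.LaxBraided.braided a b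

/-- The extension. -/
noncomputable def desc : Obj A ⥤ P where
  obj := objMap Φ
  map := Quotient.lift (preMap Φ) fun _ _ h => preMap_eq Φ h
  map_id _ := rfl
  map_comp f g := Quotient.inductionOn₂ f g fun _ _ => rfl

noncomputable instance descLaxBraided : (desc Φ).LaxBraided where
  ε := 𝟙 (𝟙_ P)
  μ X Y := 𝟙 (objMap Φ X ⊗ objMap Φ Y)
  μ_natural_left f Z := Quotient.inductionOn f fun f => by
    refine (Category.comp_id _).trans ((tensorHom_id _ _).symm.trans ?_)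
    exact (Category.id_comp _).symm
  μ_natural_right Z f := Quotient.inductionOn f fun f => by
    refine (Category.comp_id _).trans ((id_tensorHom _ _).symm.trans ?_)
    exact (Category.id_comp _).symm
  associativity X Y Z := by
    change 𝟙 _ ▷ objMap Φ Z ≫ 𝟙 _ ≫ (α_ (objMap Φ X) (objMap Φ Y) (objMap Φ Z)).hom =
      (α_ (objMap Φ X) (objMap Φ Y) (objMap Φ Z)).hom ≫ objMap Φ X ◁ 𝟙 _ ≫ 𝟙 _
    simp
  left_unitality X := by
    change (λ_ (objMap Φ X)).hom = 𝟙 _ ▷ objMap Φ X ≫ 𝟙 _ ≫ (λ_ (objMap Φ X)).hom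
    simp
  right_unitality X := by
    change (ρ_ (objMap Φ X)).hom = objMap Φ X ◁ 𝟙 _ ≫ 𝟙 _ ≫ (ρ_ (objMap Φ X)).hom
    simp
  braided X Y := by
    change 𝟙 _ ≫ (β_ (objMap Φ X) (objMap Φ Y)).hom = (β_ (objMap Φ X) (objMap Φ Y)).hom ≫ 𝟙 _
    simp

theorem exists_desc : ∃ (Ψ : Obj A ⥤ P) (_ : Ψ.LaxBraided) (η : incl A ⋙ Ψ ≅ Φ),
    NatTrans.IsMonoidal η.hom := by
  refine ⟨desc Φ, descLaxBraided Φ, NatIso.ofComponents (fun _ => Iso.refl _)
    (fun f => (Category.comp_id _).trans (Category.id_comp _).symm), ⟨?_, fun a b => ?_⟩⟩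
  · change (𝟙 _ ≫ ε Φ) ≫ 𝟙 _ = ε Φ
    simp
  · change (𝟙 _ ≫ μ Φ a b) ≫ 𝟙 _ = (𝟙 _ ⊗ₘ 𝟙 _) ≫ μ Φ a b
    simp

end Existence

section Uniqueness

variable [hP : ∀ X : P, (tensorRight X).IsEquivalence]
variable {Ψ Ψ' : Obj A ⥤ P} [Ψ.LaxBraided] [Ψ'.LaxBraided]

/-- Components of the extension of a transformation. -/
noncomputable def appMap (τ : incl A ⋙ Ψ ⟶ incl A ⋙ Ψ') : (X : Obj A) → (Ψ.obj X ⟶ Ψ'.obj X)
  | .of a => τ.app a
  | .one => CategoryTheory.inv (ε Ψ) ≫ ε Ψ'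
  | .tensor X Y => CategoryTheory.inv (μ Ψ X Y) ≫ (appMap τ X ⊗ₘ appMap τ Y) ≫ μ Ψ' X Y
  | .dual X => (tensorRight (Ψ.obj X)).preimage
      ((μ Ψ (Obj.dual X) X ≫ Ψ.map (cancelIso X).hom ≫ CategoryTheory.inv (ε Ψ) ≫ ε Ψ' ≫
          Ψ'.map (cancelIso X).inv ≫ CategoryTheory.inv (μ Ψ' (Obj.dual X) X)) ≫
        CategoryTheory.inv (Ψ'.obj (Obj.dual X) ◁ appMap τ X))

variable (τ : incl A ⋙ Ψ ⟶ incl A ⋙ Ψ')

theorem appMap_unit : ε Ψ ≫ appMap τ (𝟙_ (Obj A)) = ε Ψ' :=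
  IsIso.hom_inv_id_assoc _ _

theorem appMap_tensor (X Y : Obj A) :
    μ Ψ X Y ≫ appMap τ (X ⊗ Y) = (appMap τ X ⊗ₘ appMap τ Y) ≫ μ Ψ' X Y :=
  IsIso.hom_inv_id_assoc _ _

theorem appMap_dual (X : Obj A) :
    Ψ.map (cancelIso X).hom ≫ appMap τ (𝟙_ (Obj A)) =
      appMap τ (Obj.dual X ⊗ X) ≫ Ψ'.map (cancelIso X).hom := by
  rw [← cancel_epi (μ Ψ (Obj.dual X) X), reassoc_of% appMap_tensor τ (Obj.dual X) X, tensorHom_def, Category.assoc]
  have : appMap τ (Obj.dual X) ▷ Ψ.obj X = _ := (tensorRight (Ψ.obj X)).map_preimage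
      ((μ Ψ (Obj.dual X) X ≫ Ψ.map (cancelIso X).hom ≫ CategoryTheory.inv (ε Ψ) ≫ ε Ψ' ≫
          Ψ'.map (cancelIso X).inv ≫ CategoryTheory.inv (μ Ψ' (Obj.dual X) X)) ≫
        CategoryTheory.inv (Ψ'.obj (Obj.dual X) ◁ appMap τ X))
  rw [this]
  simp only [Category.assoc, IsIso.inv_hom_id_assoc, ← Functor.map_comp, Iso.inv_hom_id,
    CategoryTheory.Functor.map_id, Category.comp_id]
  rfl

variable [hτ : NatTrans.IsMonoidal τ]

theorem tau_unit : ε Ψ ≫ Ψ.map (mk .eps) ≫ τ.app (𝟙_ A) = ε Ψ' ≫ Ψ'.map (mk .eps) :=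
  (Category.assoc _ _ _).symm.trans hτ.unit

theorem tau_tensor (a b : A) :
    μ Ψ (Obj.of a) (Obj.of b) ≫ Ψ.map (mk (.mu a b)) ≫ τ.app (a ⊗ b) =
      (τ.app a ⊗ₘ τ.app b) ≫ μ Ψ' (Obj.of a) (Obj.of b) ≫ Ψ'.map (mk (.mu a b)) :=
  (Category.assoc _ _ _).symm.trans (hτ.tensor a b)

theorem appMap_naturality : {X Y : Obj A} → (f : Pre X Y) →
    Ψ.map (mk f) ≫ appMap τ Y = appMap τ X ≫ Ψ'.map (mk f) := by
  intro X Y f
  induction f with
  | id X =>
    change Ψ.map (𝟙 _) ≫ _ = _ ≫ Ψ'.map (𝟙 _)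
    simp
  | comp f g ih ih' =>
    change Ψ.map (mk f ≫ mk g) ≫ _ = _ ≫ Ψ'.map (mk f ≫ mk g)
    simp [ih', reassoc_of% ih]
  | @tensor X Y X' Y' f g ih ih' =>
    change Ψ.map (mk f ⊗ₘ mk g) ≫ appMap τ (Y ⊗ Y') = appMap τ (X ⊗ X') ≫ Ψ'.map (mk f ⊗ₘ mk g)
    rw [← cancel_epi (μ Ψ X X'), ← μ_natural_assoc, appMap_tensor, reassoc_of% appMap_tensor τ X X',
      ← μ_natural, ← Category.assoc, ← Category.assoc, tensorHom_comp_tensorHom, tensorHom_comp_tensorHom,
      ih, ih']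
  | @sym X Y f ih =>
    change Ψ.map (mkIso f).inv ≫ _ = _ ≫ Ψ'.map (mkIso f).inv
    rw [← cancel_epi (Ψ.map (mkIso f).hom), Iso.map_hom_inv_id_assoc]
    refine Eq.symm ?_
    change Ψ.map (mk f) ≫ _ ≫ _ = _
    rw [reassoc_of% ih]
    change appMap τ X ≫ Ψ'.map (mkIso f).hom ≫ Ψ'.map (mkIso f).inv = _
    simp
  | assoc X Y Z =>
    change Ψ.map (α_ X Y Z).hom ≫ appMap τ (X ⊗ Y ⊗ Z) = appMap τ ((X ⊗ Y) ⊗ Z) ≫ Ψ'.map (α_ X Y Z).hom
    rw [← cancel_epi (μ Ψ X Y ▷ Ψ.obj Z ≫ μ Ψ (X ⊗ Y) Z), Category.assoc, Category.assoc,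
      associativity_assoc, appMap_tensor, reassoc_of% appMap_tensor τ (X ⊗ Y) Z]
    have e₁ : (appMap τ X ⊗ₘ ((appMap τ Y ⊗ₘ appMap τ Z) ≫ μ Ψ' Y Z)) =
        (appMap τ X ⊗ₘ (appMap τ Y ⊗ₘ appMap τ Z)) ≫ Ψ'.obj X ◁ μ Ψ' Y Z := by
      rw [← id_tensorHom, tensorHom_comp_tensorHom, Category.comp_id]
    have e₂ : (((appMap τ X ⊗ₘ appMap τ Y) ≫ μ Ψ' X Y) ⊗ₘ appMap τ Z) =
        ((appMap τ X ⊗ₘ appMap τ Y) ⊗ₘ appMap τ Z) ≫ μ Ψ' X Y ▷ Ψ'.obj Z := by
      rw [← tensorHom_id, tensorHom_comp_tensorHom, Category.comp_id]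
    rw [← id_tensorHom (Ψ.obj X), ← tensorHom_id (μ Ψ X Y), tensorHom_comp_tensorHom_assoc,
      tensorHom_comp_tensorHom_assoc, appMap_tensor, appMap_tensor, Category.id_comp, Category.id_comp,
      e₁, e₂, Category.assoc, Category.assoc, ← associator_naturality_assoc, associativity]
  | lunit X =>
    change Ψ.map (λ_ X).hom ≫ appMap τ X = appMap τ (𝟙_ _ ⊗ X) ≫ Ψ'.map (λ_ X).hom
    rw [← cancel_epi (ε Ψ ▷ Ψ.obj X ≫ μ Ψ (𝟙_ _) X), Category.assoc, Category.assoc,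
      ← left_unitality_assoc, reassoc_of% appMap_tensor τ (𝟙_ _) X, ← tensorHom_id,
      tensorHom_comp_tensorHom_assoc, appMap_unit, Category.id_comp, tensorHom_def', Category.assoc,
      ← left_unitality]
    simp
  | runit X =>
    change Ψ.map (ρ_ X).hom ≫ appMap τ X = appMap τ (X ⊗ 𝟙_ _) ≫ Ψ'.map (ρ_ X).hom
    rw [← cancel_epi (Ψ.obj X ◁ ε Ψ ≫ μ Ψ X (𝟙_ _)), Category.assoc, Category.assoc,
      ← right_unitality_assoc, reassoc_of% appMap_tensor τ X (𝟙_ _), ← id_tensorHom,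
      tensorHom_comp_tensorHom_assoc, appMap_unit, Category.id_comp, tensorHom_def, Category.assoc,
      ← right_unitality]
    simp
  | braid X Y =>
    change Ψ.map (β_ X Y).hom ≫ appMap τ (Y ⊗ X) = appMap τ (X ⊗ Y) ≫ Ψ'.map (β_ X Y).hom
    rw [← cancel_epi (μ Ψ X Y), Functor.LaxBraided.braided_assoc, appMap_tensor,
      reassoc_of% appMap_tensor τ X Y, Functor.LaxBraided.braided, BraidedCategory.braiding_naturality_assoc]
  | of f => exact τ.naturality f
  | mu a b =>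
    change Ψ.map (mk (Pre.mu a b)) ≫ τ.app (a ⊗ b) = appMap τ (Obj.of a ⊗ Obj.of b) ≫ _
    refine (cancel_epi (μ Ψ (Obj.of a) (Obj.of b))).1 ((tau_tensor τ a b).trans ?_)
    exact ((reassoc_of% appMap_tensor τ (Obj.of a) (Obj.of b)) _).symm
  | eps =>
    change Ψ.map (mk Pre.eps) ≫ τ.app (𝟙_ A) = appMap τ (𝟙_ (Obj A)) ≫ _
    refine (cancel_epi (ε Ψ)).1 ((tau_unit τ).trans ?_)
    exact ((reassoc_of% appMap_unit τ) _).symm
  | cancel X => exact appMap_dual τ X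

/-- The extension of a monoidal transformation. -/
noncomputable def descTrans : Ψ ⟶ Ψ' where
  app := appMap τ
  naturality _ _ f := Quotient.inductionOn f (appMap_naturality τ)

instance descTrans_isMonoidal : NatTrans.IsMonoidal (descTrans τ) where
  unit := appMap_unit τ
  tensor := appMap_tensor τ

theorem existsUnique_trans :
    ∃! θ : Ψ ⟶ Ψ', NatTrans.IsMonoidal θ ∧ Functor.whiskerLeft (incl A) θ = τ := by
  refine ⟨descTrans τ, ⟨inferInstance, rfl⟩, ?_⟩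
  rintro θ ⟨hθ, hθτ⟩
  ext X
  change θ.app X = appMap τ X
  induction X with
  | of a => exact NatTrans.congr_app hθτ a
  | one => exact (cancel_epi (ε Ψ)).1 (hθ.unit.trans (appMap_unit τ).symm)
  | tensor X Y ihX ihY =>
    refine (cancel_epi (μ Ψ X Y)).1 ?_
    refine (hθ.tensor X Y).trans ((appMap_tensor τ X Y).trans ?_).symm
    rw [ihX, ihY]
  | dual X ih =>
    apply (tensorRight (Ψ.obj X)).map_injective
    change θ.app (Obj.dual X) ▷ Ψ.obj X = appMap τ (Obj.dual X) ▷ Ψ.obj X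
    rw [← cancel_mono (Ψ'.obj (Obj.dual X) ◁ appMap τ X), ← tensorHom_def, ← tensorHom_def,
      ← cancel_mono (μ Ψ' (Obj.dual X) X), ← appMap_tensor τ, ← ih]
    refine (hθ.tensor (Obj.dual X) X).symm.trans ?_
    congr 1
    refine (cancel_mono (Ψ'.map (cancelIso X).hom)).1 ?_
    rw [← θ.naturality, ← appMap_dual τ X]
    congr 1
    exact (cancel_epi (ε Ψ)).1 (hθ.unit.trans (appMap_unit τ).symm)

end Uniqueness

end Groth.Agent.Picardification
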